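set_option autoImplicit false
namespace Cfsg.Agent.Lib.Helper6.TCD.HS100L
noncomputable def HL0 (i : Nat) : Nat := Nat.land (Nat.shiftRight 0x731000a31000821000801000921000901000841000a41000a01000821000421000231000931000901000731000701000931000801000301000931000901000a21000a41000a01000c01000831000a01000941000a21000831000921000741000821000801000521000831000831000b21000721000501000501000901000621000b31000a01000a31000c01000631000841000731000221000941000b21000721000a01000a01000431000941000531000931000721000801000941000721000a31000a21000941000821000921000901000341000701000801000801000741000801000831000a01000921000001000901000821000b31000601000a21000a21000641000721000931000731000101000b01000821000921000a01000931000641000a31000601000931 (Nat.mul 24 (Nat.land i 1023))) 16777215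
end Cfsg.Agent.Lib.Helper6.TCD.HS100L
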