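set_option autoImplicit false
namespace Cfsg.Agent.Lib.Helper6.TCD.HS100L
noncomputable def HL1 (i : Nat) : Nat := Nat.land (Nat.shiftRight 0xd11000901000521000311000000000000000000000000000321000711000921000611000a21000401000811000301000401000801000b11000211000000000000000000000000000321000521000801000701000b01000b01000801000511000a11000621000911000911000000000000000000000000000000000000000000000000000000000000000000000000000601000921000811000721000601000801000521000701000901000621000611000411000a01000911000a11000121000d01000a21000901000601000201000811000801000521000921000811000921000501000911000411000000000c21000721000611000921000821000901000501000a01000a01000a11000a01000001000721000401000721000a01000511000721000921000000 (Nat.mul 24 (Nat.land i 1023))) 16777215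
end Cfsg.Agent.Lib.Helper6.TCD.HS100L
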