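set_option autoImplicit false
namespace Cfsg.Agent.Lib.Helper6.TCD.HS100L
noncomputable def HL2 (i : Nat) : Nat := Nat.land (Nat.shiftRight 0x411000131000000000411000000000000000000000000000501000621000501000000000000000611000521000601000511000811000000000331000000000000000000000000000701000601000221000000000201000000000701000501000000000701000301000611000000000000000000000000000000000000000000000000000000000000000000000000000221000421000501000000000421000000000521000901000501000801000000000401000000000511000111000401000401000000000801000000000501000711000211000000000000000401000000000311000401000601000000000321000601000611000211000421000301000511000101000201000301000511000000000311000411000411000711000301000311000001000000 (Nat.mul 24 (Nat.land i 1023))) 16777215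
end Cfsg.Agent.Lib.Helper6.TCD.HS100L
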