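set_option autoImplicit false
namespace Cfsg.Agent.Lib.Helper6.TCD.HS100L
noncomputable def HL3 (i : Nat) : Nat := Nat.land (Nat.shiftRight 0x311000401000000000000000000000000000000000000000601000000000211000000000000000301000521000000000000000000000000000000000000000000000000000000000000000201000601000000000521000000000000000121000000000000000000000000000000000000000000000000000000000000000000000000000000000000000000000000000321000000000511000000000000000000000000000000000000000000000000000000000000000301000421000000000000000000000411000000000000000000000000000000000000000221000000000000000611000321000000000301000221000501000101000311000000000321000521000401000000000511000000000411000601000000000401000421000001000000000000 (Nat.mul 24 (Nat.land i 1023))) 16777215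
end Cfsg.Agent.Lib.Helper6.TCD.HS100L
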