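import Cfsg.Agent.Lib.Helper6.LB1
import Cfsg.Agent.Lib.Helper6.TCD.HS100L.Lv
set_option autoImplicit false
set_option maxRecDepth 1000000
set_option Elab.async false
open Cfsg.Agent.Lib.Helper6.TC
namespace Cfsg.Agent.Lib.Helper6.TCD.HS100L
open Cfsg.Agent.Lib.Helper6.TCD.HS100a
theorem chkOrbL4 : chkOrb labL4 rnkL4 mvL4 3 100 = true := by decide +kernel
theorem cntL4 : cntLab labL4 1 100 = 6 := by decide +kernel
theorem fixL4_0_0 : Nat.beq (WL4_0 20) 20 = true := by decide +kernel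
theorem fixL4_0_1 : Nat.beq (WL4_0 8) 8 = true := by decide +kernel
theorem fixL4_0_2 : Nat.beq (WL4_0 1) 1 = true := by decide +kernel
theorem fixL4_0_3 : Nat.beq (WL4_0 2) 2 = true := by decide +kernel
theorem fixL4_1_0 : Nat.beq (WL4_1 20) 20 = true := by decide +kernel
theorem fixL4_1_1 : Nat.beq (WL4_1 8) 8 = true := by decide +kernel
theorem fixL4_1_2 : Nat.beq (WL4_1 1) 1 = true := by decide +kernel
theorem fixL4_1_3 : Nat.beq (WL4_1 2) 2 = true := by decide +kernel
end Cfsg.Agent.Lib.Helper6.TCD.HS100L
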